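import Mathlib.AlgebraicGeometry.Morphisms.SchemeTheoreticallyDominant
import Mathlib.AlgebraicGeometry.Morphisms.Immersion
import Mathlib.AlgebraicGeometry.AffineScheme
import Mathlib.AlgebraicGeometry.Limits
import Mathlib.RingTheory.Spectrum.Prime.Homeomorph
import Mathlib.RingTheory.Localization.Away.Basic

/-!
# Morphisms out of spectra of nilpotent thickenings

* `epi_of_dominant_surjective`: a quasi-compact, surjective, scheme-theoretically dominant
  morphism is an epimorphism of schemes.
* `epi_specMap`: the spectrum of an injective ring map which is surjective on spectra is an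
  epimorphism.
* `exists_desc`: if `j : E → C` is injective and a homeomorphism on spectra, with image the
  equalizer of `π, π' : C → D`, then a morphism `Spec C ⟶ X` equalizing `π, π'` descends to `Spec E`.
* `ext_prod`: morphisms out of `Spec (A × B)` are determined by the two restrictions.
-/

universe u

open CategoryTheory Limits AlgebraicGeometry TopologicalSpace

namespace Groth.Agent.Lib.NilExt.Descend

theorem epi_of_dominant_surjective {X Y : Scheme.{u}} (f : X ⟶ Y) [QuasiCompact f]
    [IsSchemeTheoreticallyDominant f] [Surjective f] : Epi f := by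
  refine ⟨fun {Z} a b hab => ?_⟩
  let e := equalizer.ι a b
  let g := equalizer.lift f hab
  have hge : g ≫ e = f := equalizer.lift_ι _ _
  have hsurj : Surjective e := ⟨fun y => by
    obtain ⟨x, hx⟩ := f.surjective y
    exact ⟨g x, by rw [← Scheme.Hom.comp_apply, hge, hx]⟩⟩
  have : IsClosedImmersion e :=
    IsClosedImmersion.of_isPreimmersion _ (by rw [e.surjective.range_eq]; exact isClosed_univ)
  have hker : e.ker = ⊥ := by
    have h := (Scheme.Hom.ker_eq_bot f)
    rw [← hge] at h
    exact le_bot_iff.mp ((Scheme.Hom.le_ker_comp g e).trans h.le)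
  have : IsIso e := IsClosedImmersion.isIso_iff_ker_eq_bot.mpr hker
  exact (cancel_epi e).mp (equalizer.condition a b)

theorem dominant_specMap {R S : CommRingCat.{u}} (j : R ⟶ S) (hj : Function.Injective j) :
    IsSchemeTheoreticallyDominant (Spec.map j) := by
  constructor
  rw [Scheme.ker_of_isAffine]
  have h : RingHom.ker (Spec.map j).appTop.hom = ⊥ := by
    rw [← RingHom.injective_iff_ker_eq_bot]
    have he : (Spec.map j).appTop = (Scheme.ΓSpecIso R).hom ≫ j ≫ (Scheme.ΓSpecIso S).inv := by
      simp
    rw [he]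
    simp only [CommRingCat.hom_comp, RingHom.coe_comp]
    exact ((Scheme.ΓSpecIso S).commRingCatIsoToRingEquiv.symm.injective).comp
      (hj.comp (Scheme.ΓSpecIso R).commRingCatIsoToRingEquiv.injective)
  rw [h]
  exact Scheme.IdealSheafData.ext_of_isAffine (by simp)

theorem surjective_specMap {R S : CommRingCat.{u}} (j : R ⟶ S)
    (hs : Function.Surjective (PrimeSpectrum.comap j.hom)) : Surjective (Spec.map j) :=
  ⟨hs⟩

theorem epi_specMap {R S : CommRingCat.{u}} (j : R ⟶ S) (hj : Function.Injective j)
    (hs : Function.Surjective (PrimeSpectrum.comap j.hom)) : Epi (Spec.map j) := by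
  have := dominant_specMap j hj
  have := surjective_specMap j hs
  exact epi_of_dominant_surjective _

/-- Morphisms out of the spectrum of a product are determined on the two factors. -/
theorem ext_prod {A B : Type u} [CommRing A] [CommRing B] {X : Scheme.{u}}
    {u v : Spec (CommRingCat.of (A × B)) ⟶ X}
    (h₁ : Spec.map (CommRingCat.ofHom (RingHom.fst A B)) ≫ u =
      Spec.map (CommRingCat.ofHom (RingHom.fst A B)) ≫ v)
    (h₂ : Spec.map (CommRingCat.ofHom (RingHom.snd A B)) ≫ u =
      Spec.map (CommRingCat.ofHom (RingHom.snd A B)) ≫ v) : u = v := by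
  rw [← cancel_epi (coprodSpec A B)]
  apply coprod.hom_ext
  · simpa [← Category.assoc] using h₁
  · simpa [← Category.assoc] using h₂

section Local

variable {E C D : Type u} [CommRing E] [CommRing C] [CommRing D]
variable {X : Scheme.{u}}

theorem exists_local (j : E →+* C) (π π' : C →+* D) (hj : Function.Injective j)
    (hhom : IsHomeomorph (PrimeSpectrum.comap j))
    (heq : π.comp j = π'.comp j) (hex : ∀ c, π c = π' c → c ∈ j.range)
    (u : Spec (CommRingCat.of C) ⟶ X)
    (hu : Spec.map (CommRingCat.ofHom π) ≫ u = Spec.map (CommRingCat.ofHom π') ≫ u)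
    (x : PrimeSpectrum E) :
    ∃ e : E, x ∈ PrimeSpectrum.basicOpen e ∧
      ∃ v : Spec (CommRingCat.of (Localization.Away e)) ⟶ X,
        ∀ (Z : Scheme.{u}) (a : Z ⟶ Spec (CommRingCat.of C))
          (b : Z ⟶ Spec (CommRingCat.of (Localization.Away e))),
          a ≫ Spec.map (CommRingCat.ofHom j) =
            b ≫ Spec.map (CommRingCat.ofHom (algebraMap E (Localization.Away e))) →
          a ≫ u = b ≫ v := by
  obtain ⟨y, rfl⟩ := hhom.surjective x
  obtain ⟨V, hV, hyV, -⟩ := exists_isAffineOpen_mem_and_subset (x := u y)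
    (U := (⊤ : X.Opens)) trivial
  have hW : IsOpen (PrimeSpectrum.comap j '' (u ⁻¹' (V : Set X))) :=
    hhom.isOpenMap _ (V.2.preimage u.continuous)
  obtain ⟨_, ⟨e, rfl⟩, hxe, heW⟩ :=
    PrimeSpectrum.isTopologicalBasis_basic_opens.exists_subset_of_mem_open
      (Set.mem_image_of_mem (PrimeSpectrum.comap j) (show y ∈ u ⁻¹' (V : Set X) from hyV)) hW
  refine ⟨e, hxe, ?_⟩
  have hsub : ∀ z : PrimeSpectrum C, z ∈ PrimeSpectrum.basicOpen (j e) → u z ∈ V := by
    intro z hz
    obtain ⟨w, hw, hwz⟩ := heW (show PrimeSpectrum.comap j z ∈ PrimeSpectrum.basicOpen e from hz)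
    rw [hhom.injective hwz] at hw
    exact hw
  let algC := algebraMap C (Localization.Away (j e))
  have hrange : Set.range (Spec.map (CommRingCat.ofHom algC)).base =
      (PrimeSpectrum.basicOpen (j e) : Set (PrimeSpectrum C)) :=
    PrimeSpectrum.localization_away_comap_range (Localization.Away (j e)) (j e)
  let ψ : Spec (CommRingCat.of (Localization.Away (j e))) ⟶ V.toScheme :=
    IsOpenImmersion.lift V.ι (Spec.map (CommRingCat.ofHom algC) ≫ u) (by
      rintro _ ⟨z, rfl⟩
      simp only [Scheme.Opens.range_ι, Scheme.Hom.comp_apply]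
      exact hsub _ (Set.ext_iff.mp hrange _ |>.mp ⟨z, rfl⟩))
  have hψ : ψ ≫ V.ι = Spec.map (CommRingCat.ofHom algC) ≫ u := IsOpenImmersion.lift_fac _ _ _
  obtain ⟨φ, hφ⟩ := Spec.map_surjective (ψ ≫ hV.isoSpec.hom)
  let d := π (j e)
  have hd' : π' (j e) = d := (RingHom.congr_fun heq e).symm
  let algD := algebraMap D (Localization.Away d)
  let jL : Localization.Away e →+* Localization.Away (j e) :=
    IsLocalization.Away.lift e (g := algC.comp j)
      (IsLocalization.Away.algebraMap_isUnit (S := Localization.Away (j e)) (j e))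
  let πL : Localization.Away (j e) →+* Localization.Away d :=
    IsLocalization.Away.lift (j e) (g := algD.comp π)
      (IsLocalization.Away.algebraMap_isUnit (S := Localization.Away d) d)
  let πL' : Localization.Away (j e) →+* Localization.Away d :=
    IsLocalization.Away.lift (j e) (g := algD.comp π') (by
      rw [RingHom.comp_apply, hd']
      exact IsLocalization.Away.algebraMap_isUnit (S := Localization.Away d) d)
  have hjL : jL.comp (algebraMap E _) = algC.comp j := IsLocalization.Away.lift_comp _ _
  have hπL : πL.comp algC = algD.comp π := IsLocalization.Away.lift_comp _ _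
  have hπL' : πL'.comp algC = algD.comp π' := IsLocalization.Away.lift_comp _ _
  have ej : ∀ c, jL (algebraMap E _ c) = algC (j c) := fun c => RingHom.congr_fun hjL c
  have e1 : ∀ c, πL (algC c) = algD (π c) := fun c => RingHom.congr_fun hπL c
  have e2 : ∀ c, πL' (algC c) = algD (π' c) := fun c => RingHom.congr_fun hπL' c
  have hψeq : Spec.map (CommRingCat.ofHom πL) ≫ ψ = Spec.map (CommRingCat.ofHom πL') ≫ ψ := by
    rw [← cancel_mono V.ι, Category.assoc, Category.assoc, hψ, ← Category.assoc, ← Category.assoc,
      ← Spec.map_comp, ← Spec.map_comp, ← CommRingCat.ofHom_comp, ← CommRingCat.ofHom_comp, hπL,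
      hπL', CommRingCat.ofHom_comp π algD, CommRingCat.ofHom_comp π' algD, Spec.map_comp,
      Spec.map_comp, Category.assoc, Category.assoc]
    exact congrArg (Spec.map (CommRingCat.ofHom algD) ≫ ·) hu
  have hφeq : φ ≫ CommRingCat.ofHom πL = φ ≫ CommRingCat.ofHom πL' := by
    apply Spec.map_injective
    rw [Spec.map_comp, Spec.map_comp, hφ, reassoc_of% hψeq]
  have hjLinj : Function.Injective jL := by
    rw [injective_iff_map_eq_zero]
    intro z hz
    obtain ⟨a, ⟨_, n, rfl⟩, rfl⟩ := IsLocalization.exists_mk'_eq (Submonoid.powers e) z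
    have h1 : algC (j a) = 0 := by
      rw [← ej, ← IsLocalization.mk'_spec (Localization.Away e) a
        (⟨e ^ n, n, rfl⟩ : Submonoid.powers e), map_mul]
      exact mul_eq_zero_of_left hz _
    obtain ⟨⟨_, m, rfl⟩, hm⟩ := (IsLocalization.map_eq_zero_iff (Submonoid.powers (j e)) _ _).mp h1
    rw [IsLocalization.mk'_eq_zero_iff]
    exact ⟨⟨e ^ m, m, rfl⟩, hj (by simpa [map_pow] using hm)⟩
  have hmem : ∀ a, φ a ∈ jL.range := by
    intro a
    obtain ⟨n, c, hc⟩ := IsLocalization.Away.surj (j e) (φ a)
    have h := ConcreteCategory.congr_hom hφeq a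
    have h2 : algD (π c) = algD (π' c) := by
      rw [← e1, ← e2]
      calc πL (algC c) = πL (φ a * algC (j e) ^ n) := congrArg πL hc.symm
        _ = πL' (φ a * algC (j e) ^ n) := by
          simp only [map_mul, map_pow]
          rw [e1, e2, hd']
          exact congrArg (· * _) h
        _ = πL' (algC c) := congrArg πL' hc
    obtain ⟨⟨_, m, rfl⟩, hm⟩ := (IsLocalization.eq_iff_exists (Submonoid.powers d) _).mp h2
    obtain ⟨c0, hc0⟩ := hex (j e ^ m * c) (by
      rw [map_mul, map_mul, map_pow, map_pow, hd']; exact hm)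
    refine ⟨IsLocalization.mk' (Localization.Away e) c0
      (⟨e ^ (n + m), n + m, rfl⟩ : Submonoid.powers e), ?_⟩
    have hu' : IsUnit ((algC (j e)) ^ (n + m)) :=
      (IsLocalization.Away.algebraMap_isUnit (j e)).pow _
    apply hu'.mul_left_injective
    have hs := congrArg jL (IsLocalization.mk'_spec (Localization.Away e) c0
      (⟨e ^ (n + m), n + m, rfl⟩ : Submonoid.powers e))
    simp only [map_mul, map_pow, ej] at hs
    refine hs.trans ?_
    have hc' : φ a * algC (j e) ^ n = algC c := hc
    show algC (j c0) = φ a * algC (j e) ^ (n + m)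
    rw [hc0, map_mul, map_pow, ← hc', pow_add]
    ring
  let φ0 : Γ(X, V) →+* Localization.Away e :=
    (RingEquiv.ofLeftInverse (Function.leftInverse_invFun hjLinj)).symm.toRingHom.comp
      (φ.hom.codRestrict jL.range hmem)
  have hφ0 : CommRingCat.ofHom φ0 ≫ CommRingCat.ofHom jL = φ := by
    ext a
    exact Function.invFun_eq (hmem a)
  refine ⟨Spec.map (CommRingCat.ofHom φ0) ≫ hV.isoSpec.inv ≫ V.ι, fun Z a b hab => ?_⟩
  have ha : Set.range a.base ⊆ Set.range (Spec.map (CommRingCat.ofHom algC)).base := by
    rintro _ ⟨z, rfl⟩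
    rw [hrange]
    have h1 : PrimeSpectrum.comap j (a z) ∈ PrimeSpectrum.basicOpen e := by
      have h2 : (a ≫ Spec.map (CommRingCat.ofHom j)) z ∈
          (PrimeSpectrum.basicOpen e : Set (PrimeSpectrum E)) := by
        rw [hab, ← PrimeSpectrum.localization_away_comap_range (Localization.Away e) e]
        exact ⟨b z, rfl⟩
      exact h2
    exact h1
  have hfac := IsOpenImmersion.lift_fac _ a ha
  set a' := IsOpenImmersion.lift (Spec.map (CommRingCat.ofHom algC)) a ha with ha'
  have hb : b = a' ≫ Spec.map (CommRingCat.ofHom jL) := by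
    rw [← cancel_mono (Spec.map (CommRingCat.ofHom (algebraMap E (Localization.Away e)))), ← hab,
      ← hfac, Category.assoc, Category.assoc, ← Spec.map_comp, ← Spec.map_comp,
      ← CommRingCat.ofHom_comp, ← CommRingCat.ofHom_comp, hjL]
  rw [hb, ← hfac, Category.assoc, Category.assoc, ← Spec.map_comp_assoc, hφ0, hφ]
  simp [← hψ]

/-- Descent of morphisms along an equalizer of rings which is a homeomorphism on spectra. -/
theorem exists_desc (j : E →+* C) (π π' : C →+* D) (hj : Function.Injective j)
    (hhom : IsHomeomorph (PrimeSpectrum.comap j))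
    (heq : π.comp j = π'.comp j) (hex : ∀ c, π c = π' c → c ∈ j.range)
    (u : Spec (CommRingCat.of C) ⟶ X)
    (hu : Spec.map (CommRingCat.ofHom π) ≫ u = Spec.map (CommRingCat.ofHom π') ≫ u) :
    ∃ v : Spec (CommRingCat.of E) ⟶ X, Spec.map (CommRingCat.ofHom j) ≫ v = u := by
  choose e he v hv using exists_local j π π' hj hhom heq hex u hu
  have hspan : Ideal.span (Set.range e) = ⊤ := by
    rw [← PrimeSpectrum.iSup_basicOpen_eq_top_iff]
    exact top_le_iff.mp fun x _ => Opens.mem_iSup.mpr ⟨x, he x⟩
  let 𝒰 := (Scheme.affineOpenCoverOfSpanRangeEqTop (R := CommRingCat.of E) e hspan).openCover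
  have hP : Surjective (Spec.map (CommRingCat.ofHom j)) := surjective_specMap _ hhom.surjective
  have hD : IsSchemeTheoreticallyDominant (Spec.map (CommRingCat.ofHom j)) := dominant_specMap _ hj
  refine ⟨𝒰.glueMorphisms v fun x y => ?_, ?_⟩
  · let g := pullback.fst (𝒰.f x) (𝒰.f y) ≫ 𝒰.f x
    have : Epi (pullback.snd (Spec.map (CommRingCat.ofHom j)) g) := epi_of_dominant_surjective _
    refine (cancel_epi (pullback.snd (Spec.map (CommRingCat.ofHom j)) g)).mp ?_
    refine (Category.assoc _ _ _).symm.trans
      (Eq.trans (hv x _ (pullback.fst (Spec.map (CommRingCat.ofHom j)) g) _ ?_).symm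
      (Eq.trans (hv y _ (pullback.fst (Spec.map (CommRingCat.ofHom j)) g) _ ?_)
      (Category.assoc _ _ _)))
    · exact pullback.condition.trans (Category.assoc _ _ _).symm
    · exact (pullback.condition.trans
        (congrArg (pullback.snd _ _ ≫ ·) pullback.condition)).trans (Category.assoc _ _ _).symm
  · apply Scheme.Cover.hom_ext (𝒰.pullback₁ (Spec.map (CommRingCat.ofHom j)))
    intro x
    show pullback.fst (Spec.map (CommRingCat.ofHom j)) (𝒰.f x) ≫
        Spec.map (CommRingCat.ofHom j) ≫ 𝒰.glueMorphisms v _ =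
      pullback.fst (Spec.map (CommRingCat.ofHom j)) (𝒰.f x) ≫ u
    rw [pullback.condition_assoc]
    exact (congrArg (pullback.snd _ _ ≫ ·) (Scheme.Cover.ι_glueMorphisms 𝒰 v _ x)).trans
      (hv x _ _ _ pullback.condition).symm

end Local

end Groth.Agent.Lib.NilExt.Descend
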